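/-
Polynomial functions on a vector space (`LefPen.IsPolyFun`, `LefPen.IsGeneric`) in coordinates, and the
generic finiteness of fibres of a polynomial parametrisation with at most as many parameters as targets.
-/
import Groth.Prelude.Def_LefPen
import Mathlib.Algebra.MvPolynomial.Funext
import Mathlib.RingTheory.AlgebraicIndependent.TranscendenceBasis
import Mathlib.RingTheory.AlgebraicIndependent.Transcendental
import Mathlib.LinearAlgebra.FiniteDimensional.Basic

namespace Groth.Agent.GenericFibre

universe u

open MvPolynomial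

variable {k : Type u} [Field k] {V : Type u} [AddCommGroup V] [Module k V]

/-- evaluation of polynomials in coordinates `x` as functions on `V` -/
noncomputable def evalFun {κ : Type*} (x : κ → Module.Dual k V) :
    MvPolynomial κ k →ₐ[k] (V → k) :=
  MvPolynomial.aeval fun j => (x j : V → k)

lemma evalFun_apply {κ : Type*} (x : κ → Module.Dual k V) (P : MvPolynomial κ k) (v : V) :
    evalFun x P v = eval (fun j => x j v) P := by
  induction P using MvPolynomial.induction_on with
  | C a => simp [evalFun]
  | add p q hp hq => simp [map_add, hp, hq]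
  | mul_X p j hp =>
    rw [map_mul, map_mul, Pi.mul_apply, hp]
    simp [evalFun]

lemma isPolyFun_eval {κ : Type*} (x : κ → Module.Dual k V) (P : MvPolynomial κ k) :
    LefPen.IsPolyFun k (fun v : V => eval (fun j => x j v) P) := by
  have h : (fun v : V => eval (fun j => x j v) P) = evalFun x P := funext fun v => (evalFun_apply x P v).symm
  rw [LefPen.IsPolyFun, h]
  induction P using MvPolynomial.induction_on with
  | C a => simpa [evalFun] using Subalgebra.algebraMap_mem _ a
  | add p q hp hq =>
    rw [map_add]
    exact Subalgebra.add_mem _ (hp (funext fun v => (evalFun_apply x p v).symm))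
      (hq (funext fun v => (evalFun_apply x q v).symm))
  | mul_X p j hp =>
    rw [map_mul]
    exact Subalgebra.mul_mem _ (hp (funext fun v => (evalFun_apply x p v).symm))
      (Algebra.subset_adjoin ⟨x j, by simp [evalFun]⟩)

/-- every polynomial function is a polynomial in the coordinates of a basis -/
lemma exists_eval_eq {ι : Type*} [Fintype ι] (b : Module.Basis ι k V) {f : V → k}
    (hf : LefPen.IsPolyFun k f) : ∃ P : MvPolynomial ι k, ∀ v, f v = eval (fun j => b.repr v j) P := by
  rw [LefPen.IsPolyFun] at hf
  induction hf using Algebra.adjoin_induction with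
  | mem g hg =>
    obtain ⟨l, rfl⟩ := hg
    refine ⟨∑ j, C (l (b j)) * X j, fun v => ?_⟩
    simp only [map_sum, map_mul, eval_C, eval_X]
    conv_lhs => rw [← b.sum_repr v, map_sum]
    exact Finset.sum_congr rfl fun j _ => by rw [map_smul, smul_eq_mul, mul_comm]
  | algebraMap r => exact ⟨C r, fun v => by simp⟩
  | add p q _ _ hp hq =>
    obtain ⟨P, hP⟩ := hp
    obtain ⟨Q, hQ⟩ := hq
    exact ⟨P + Q, fun v => by simp [hP, hQ]⟩
  | mul p q _ _ hp hq =>
    obtain ⟨P, hP⟩ := hp
    obtain ⟨Q, hQ⟩ := hq
    exact ⟨P * Q, fun v => by simp [hP, hQ]⟩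

lemma isGeneric_of_poly [Infinite k] {κ : Type*} (e : V ≃ₗ[k] (κ → k)) {Q : MvPolynomial κ k}
    (hQ : Q ≠ 0) {S : Set V} (h : ∀ v, eval (e v) Q ≠ 0 → v ∈ S) : LefPen.IsGeneric k S := by
  refine ⟨fun v => eval (e v) Q, isPolyFun_eval (fun j => (LinearMap.proj j).comp e.toLinearMap) Q,
    ?_, h⟩
  by_contra hne
  push Not at hne
  exact hQ (MvPolynomial.funext fun x => by simpa using hne (e.symm x))

lemma isGeneric_mono {S T : Set V} (h : LefPen.IsGeneric k S) (hST : S ⊆ T) : LefPen.IsGeneric k T := by
  obtain ⟨f, hf, hne, hS⟩ := h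
  exact ⟨f, hf, hne, fun v hv => hST (hS v hv)⟩

lemma isGeneric_univ : LefPen.IsGeneric k (Set.univ : Set V) :=
  ⟨1, Subalgebra.one_mem _, ⟨0, one_ne_zero⟩, fun _ _ => trivial⟩

lemma isGeneric_inter [Infinite k] [FiniteDimensional k V] {S T : Set V}
    (hS : LefPen.IsGeneric k S) (hT : LefPen.IsGeneric k T) : LefPen.IsGeneric k (S ∩ T) := by
  obtain ⟨f, hf, ⟨v, hv⟩, hfS⟩ := hS
  obtain ⟨g, hg, ⟨w, hw⟩, hgT⟩ := hT
  let b := Module.finBasis k V
  obtain ⟨P, hP⟩ := exists_eval_eq b hf
  obtain ⟨Q, hQ⟩ := exists_eval_eq b hg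
  refine ⟨f * g, Subalgebra.mul_mem _ hf hg, ?_, fun x hx => ⟨hfS x (left_ne_zero_of_mul hx),
    hgT x (right_ne_zero_of_mul hx)⟩⟩
  by_contra hne
  push Not at hne
  have h0 : P * Q = 0 := MvPolynomial.funext fun x => by
    have h := hne (b.equivFun.symm x)
    rw [Pi.mul_apply, hP, hQ] at h
    have e : (fun j => b.repr (b.equivFun.symm x) j) = x := b.equivFun.apply_symm_apply x
    rw [e] at h
    simpa using h
  rcases mul_eq_zero.1 h0 with h | h
  · exact hv (by rw [hP, h, map_zero])
  · exact hw (by rw [hQ, h, map_zero])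

lemma isGeneric_forall [Infinite k] [FiniteDimensional k V] {α : Type*} [Finite α]
    {S : α → Set V} (h : ∀ a, LefPen.IsGeneric k (S a)) : LefPen.IsGeneric k {v | ∀ a, v ∈ S a} := by
  classical
  have := Fintype.ofFinite α
  suffices H : ∀ t : Finset α, LefPen.IsGeneric k {v | ∀ a ∈ t, v ∈ S a} from
    isGeneric_mono (H Finset.univ) fun v hv a => hv a (Finset.mem_univ a)
  intro t
  induction t using Finset.induction with
  | empty => exact isGeneric_mono isGeneric_univ fun v _ => by simp
  | insert a t _ ih =>
    exact isGeneric_mono (isGeneric_inter (h a) ih) fun v hv => by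
      simp only [Set.mem_setOf_eq, Finset.forall_mem_insert]
      exact hv

/-- Fewer parameters than coordinates: the image satisfies a nonzero equation. -/
theorem exists_relation {ι κ : Type} [Fintype ι] [Fintype κ]
    (P : κ → MvPolynomial ι k) (h : Fintype.card ι < Fintype.card κ) :
    ∃ Q : MvPolynomial κ k, Q ≠ 0 ∧ ∀ z : ι → k, eval (fun j => eval z (P j)) Q = 0 := by
  have hni : ¬ AlgebraicIndependent k P := fun hind => by
    have := hind.lift_cardinalMk_le_trdeg
    rw [MvPolynomial.trdeg_of_isDomain, Cardinal.mk_fintype, Cardinal.mk_fintype] at this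
    simp at this
    omega
  rw [algebraicIndependent_iff] at hni
  push Not at hni
  obtain ⟨Q, hQ, hne⟩ := hni
  refine ⟨Q, hne, fun z => ?_⟩
  have h2 : eval (fun j => eval z (P j)) Q = eval z (aeval P Q) := by
    clear hQ hne
    induction Q using MvPolynomial.induction_on with
    | C a => simp
    | add p q hp hq => simp [map_add, hp, hq]
    | mul_X p j hp => simp [map_mul, hp]
  rw [h2, hQ, map_zero]

/-- At most as many parameters as coordinates: the fibres are finite away from a hypersurface. -/
theorem exists_finite_fibres {ι κ : Type} [Fintype ι] [Fintype κ]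
    (P : κ → MvPolynomial ι k) (h : Fintype.card ι ≤ Fintype.card κ) :
    ∃ Q : MvPolynomial κ k, Q ≠ 0 ∧ ∀ c : κ → k, eval c Q ≠ 0 →
      {z : ι → k | (fun j => eval z (P j)) = c}.Finite := by
  classical
  by_cases hi : ∀ i : ι, ∃ R : Polynomial (MvPolynomial κ k), R ≠ 0 ∧
      ∀ z : ι → k, Polynomial.eval (z i) (R.map (eval fun j => eval z (P j))) = 0
  · choose R hR hRz using hi
    refine ⟨∏ i, (R i).leadingCoeff,
      Finset.prod_ne_zero_iff.2 fun i _ => Polynomial.leadingCoeff_ne_zero.2 (hR i), fun c hc => ?_⟩
    rw [map_prod, Finset.prod_ne_zero_iff] at hc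
    have hne : ∀ i, (R i).map (eval c) ≠ 0 := fun i h0 => by
      have := congrArg (fun p => Polynomial.coeff p (R i).natDegree) h0
      simp only [Polynomial.coeff_map, Polynomial.coeff_zero] at this
      exact hc i (Finset.mem_univ i) this
    refine (Set.Finite.pi' (t := fun i => {x : k | ((R i).map (eval c)).IsRoot x})
      fun i => Polynomial.finite_setOf_isRoot (hne i)).subset ?_
    intro z hz i
    have := hRz i z
    rw [Set.mem_setOf_eq] at hz
    rw [hz] at this
    exact this
  · exfalso
    push Not at hi
    obtain ⟨i, hi⟩ := hi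
    have hind : AlgebraicIndependent k (fun o : Option κ => o.elim (X i : MvPolynomial ι k) P) := by
      rw [algebraicIndependent_iff]
      intro T hT
      by_contra hne
      obtain ⟨z, hz⟩ := hi (optionEquivLeft k κ T) (by simpa using hne)
      apply hz
      rw [← optionEquivLeft_elim_eval]
      have h2 : ∀ T : MvPolynomial (Option κ) k,
          eval (fun o : Option κ => o.elim (z i) fun j => eval z (P j)) T =
            eval z (aeval (fun o : Option κ => o.elim (X i : MvPolynomial ι k) P) T) := by
        intro T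
        induction T using MvPolynomial.induction_on with
        | C a => simp
        | add p q hp hq => simp [map_add, hp, hq]
        | mul_X p j hp => cases j <;> simp [map_mul, hp]
      rw [h2, hT, map_zero]
    have := hind.lift_cardinalMk_le_trdeg
    rw [MvPolynomial.trdeg_of_isDomain, Cardinal.mk_fintype, Cardinal.mk_fintype] at this
    simp at this
    omega

end Groth.Agent.GenericFibre
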