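/-
Coordinates on spaces of forms, and the charts of the incidence variety of linear subspaces on hypersurfaces.
-/
import Groth.Agent.GenericFibre.Basic
import Mathlib.Data.Finsupp.Multiset
import Mathlib.Data.Sym.Card
import Mathlib.RingTheory.MvPolynomial.Homogeneous

namespace Groth.Agent.GenericFibre

universe u

open MvPolynomial

/-- monomials of degree `d` in `n + 1` variables -/
abbrev Mon (n d : ℕ) : Type := {m : Fin (n + 1) →₀ ℕ // m.degree = d}

/-- monomials of degree `d` and symmetric powers -/
noncomputable def monEquivSym (n d : ℕ) : Sym (Fin (n + 1)) d ≃ Mon n d :=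
  (Sym.equivNatSum (Fin (n + 1)) d).trans (Equiv.subtypeEquivRight fun m => by
    simp [Finsupp.sum]; rfl)

noncomputable instance instFintypeMon (n d : ℕ) : Fintype (Mon n d) := Fintype.ofEquiv _ (monEquivSym n d)

lemma card_mon (n d : ℕ) : Fintype.card (Mon n d) = Nat.choose (n + d) d := by
  rw [← Fintype.card_congr (monEquivSym n d), Sym.card_sym_eq_multichoose, Fintype.card_fin,
    Nat.multichoose_eq]
  congr 1
  omega

variable (k : Type u) [Field k] (n d : ℕ)

lemma sum_monomial_mem (c : Mon n d → k) :
    ∑ m : Mon n d, monomial m.1 (c m) ∈ CohB1.polyGrading n k d :=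
  Submodule.sum_mem _ fun m _ => (mem_homogeneousSubmodule d _).2 (isHomogeneous_monomial _ m.2)

variable {k n d}

lemma coeff_sum_monomial {R : Type*} [CommSemiring R] (c : Mon n d → R) (m : Mon n d) :
    coeff m.1 (∑ m' : Mon n d, monomial m'.1 (c m')) = c m := by
  classical
  rw [coeff_sum, Finset.sum_eq_single m]
  · simp
  · intro b _ hb
    rw [coeff_monomial, if_neg (fun h => hb (Subtype.ext h))]
  · simp

lemma eq_sum_monomial {R : Type*} [CommSemiring R] {F : MvPolynomial (Fin (n + 1)) R}
    (hF : F.IsHomogeneous d) : F = ∑ m : Mon n d, monomial m.1 (coeff m.1 F) := by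
  classical
  ext a
  by_cases ha : a.degree = d
  · exact (coeff_sum_monomial (fun m => coeff m.1 F) ⟨a, ha⟩).symm
  · rw [hF.coeff_eq_zero ha, coeff_sum, Finset.sum_eq_zero]
    intro m _
    rw [coeff_monomial, if_neg]
    rintro rfl
    exact ha m.2

variable (k n d)

/-- coefficient coordinates on forms -/
noncomputable def coeffEquiv : LefPen.Form n k d ≃ₗ[k] (Mon n d → k) where
  toFun G m := coeff m.1 G.1
  invFun c := ⟨_, sum_monomial_mem k n d c⟩
  map_add' G H := funext fun m => by simp
  map_smul' t G := funext fun m => by simp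
  left_inv G := Subtype.ext (eq_sum_monomial ((mem_homogeneousSubmodule d _).1 G.2)).symm
  right_inv c := funext fun m => coeff_sum_monomial c m

instance instFiniteForm : FiniteDimensional k (LefPen.Form n k d) :=
  (coeffEquiv k n d).symm.finiteDimensional

variable {k n d}

lemma finrank_form : Module.finrank k (LefPen.Form n k d) = Nat.choose (n + d) d := by
  rw [(coeffEquiv k n d).finrank_eq, Module.finrank_fintype_fun_eq_card, card_mon]

/-- A family of forms with fewer parameters than coefficients misses a general form. -/
theorem isGeneric_not_mem_family [Infinite k] {ι : Type} [Fintype ι]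
    (Φ : MvPolynomial (Fin (n + 1)) (MvPolynomial ι k))
    (h : Fintype.card ι < Nat.choose (n + d) d) :
    LefPen.IsGeneric k {G : LefPen.Form n k d | ∀ z : ι → k, map (eval z) Φ ≠ G.1} := by
  obtain ⟨Q, hQ, hz⟩ := exists_relation (k := k) (fun m : Mon n d => coeff m.1 Φ)
    (by rwa [card_mon])
  refine isGeneric_of_poly (coeffEquiv k n d) hQ fun G hG z hzG => hG ?_
  have e : coeffEquiv k n d G = fun m : Mon n d => eval z (coeff m.1 Φ) := by
    funext m
    rw [show coeffEquiv k n d G m = coeff m.1 G.1 from rfl, ← hzG, coeff_map]
  rw [e]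
  exact hz z

/-- A family of forms with at most as many parameters as coefficients has finite fibres over a general form. -/
theorem isGeneric_finite_family [Infinite k] {ι : Type} [Fintype ι]
    (Φ : MvPolynomial (Fin (n + 1)) (MvPolynomial ι k))
    (h : Fintype.card ι ≤ Nat.choose (n + d) d) :
    LefPen.IsGeneric k {G : LefPen.Form n k d | {z : ι → k | map (eval z) Φ = G.1}.Finite} := by
  obtain ⟨Q, hQ, hz⟩ := exists_finite_fibres (k := k) (fun m : Mon n d => coeff m.1 Φ)
    (by rwa [card_mon])
  refine isGeneric_of_poly (coeffEquiv k n d) hQ fun G hG => (hz _ hG).subset fun z hzG => ?_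
  funext m
  rw [show coeffEquiv k n d G m = coeff m.1 G.1 from rfl, ← (hzG : map (eval z) Φ = G.1), coeff_map]

lemma map_aeval_eq {R S : Type*} [CommRing R] [CommRing S] (φ : R →+* S) {σ τ : Type*}
    (L : σ → MvPolynomial τ R) (F : MvPolynomial σ R) :
    map φ (aeval L F) = aeval (fun l => map φ (L l)) (map φ F) := by
  induction F using MvPolynomial.induction_on with
  | C a => simp
  | add p q hp hq => simp only [map_add, hp, hq]
  | mul_X p j hp => simp only [map_mul, hp, aeval_X, map_X]

section Chart

variable {r : ℕ} (s : Fin r → Fin (n + 1))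

/-- indices outside the chart -/
abbrev Out : Type := {l : Fin (n + 1) // l ∉ Set.range s}

/-- the linear substitution attached to a chart matrix -/
noncomputable def chartLin {R : Type*} [CommRing R] (B : Fin r → Out s → R) :
    Fin (n + 1) → MvPolynomial (Fin (n + 1)) R := fun l =>
  X l + if h : l ∈ Set.range s then 0 else ∑ i, C (B i ⟨l, h⟩) * X (s i)

/-- the point of the subspace of the chart -/
noncomputable def chartPt {R : Type*} [CommRing R] (B : Fin r → Out s → R) (x : Fin (n + 1) → R) :
    Fin (n + 1) → R := fun l =>
  x l + if h : l ∈ Set.range s then 0 else ∑ i, B i ⟨l, h⟩ * x (s i)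

lemma map_chartLin {R S : Type*} [CommRing R] [CommRing S] (φ : R →+* S) (B : Fin r → Out s → R)
    (l : Fin (n + 1)) : map φ (chartLin s B l) = chartLin s (fun i o => φ (B i o)) l := by
  unfold chartLin
  split_ifs <;> simp

lemma eval_chartLin {R : Type*} [CommRing R] (B : Fin r → Out s → R) (x : Fin (n + 1) → R)
    (F : MvPolynomial (Fin (n + 1)) R) :
    eval x (aeval (chartLin s B) F) = eval (chartPt s B x) F := by
  induction F using MvPolynomial.induction_on with
  | C a => simp
  | add p q hp hq => simp only [map_add, hp, hq]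
  | mul_X p j hp =>
    simp only [map_mul, hp, aeval_X, eval_X]
    congr 1
    unfold chartLin chartPt
    split_ifs <;> simp

lemma isHomogeneous_chartLin {R : Type*} [CommRing R] (B : Fin r → Out s → R) (l : Fin (n + 1)) :
    (chartLin s B l).IsHomogeneous 1 := by
  unfold chartLin
  split_ifs
  · simpa using isHomogeneous_X R l
  · exact (isHomogeneous_X R l).add (IsHomogeneous.sum _ _ _ fun i _ => (isHomogeneous_X R _).C_mul _)

/-- basis vectors of the subspace of the chart -/
noncomputable def chartVec (A : Fin r → Out s → k) (i : Fin r) : Fin (n + 1) → k := fun l =>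
  if h : l ∈ Set.range s then (if l = s i then 1 else 0) else A i ⟨l, h⟩

variable (d) in
/-- monomials involving a variable outside the chart -/
abbrev FreeMon : Type := {m : Mon n d // ¬ ∀ l ∈ m.1.support, l ∈ Set.range s}

variable (k d) in
/-- the universal form containing a subspace of the chart -/
noncomputable def chartFamily :
    MvPolynomial (Fin (n + 1)) (MvPolynomial ((Fin r × Out s) ⊕ FreeMon d s) k) :=
  aeval (chartLin s fun i o => (X (Sum.inl (i, o)) : MvPolynomial ((Fin r × Out s) ⊕ FreeMon d s) k))
    (∑ m : FreeMon d s, monomial m.1.1 (X (Sum.inr m) : MvPolynomial ((Fin r × Out s) ⊕ FreeMon d s) k))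

lemma card_chart (hs : Function.Injective s) (m : ℕ) (hr : r = m + 1) :
    Fintype.card ((Fin r × Out s) ⊕ FreeMon d s) + Nat.choose (m + d) d =
      r * (n + 1 - r) + Nat.choose (n + d) d := by
  classical
  subst hr
  have h1 : Fintype.card (Out s) = n + 1 - (m + 1) := by
    rw [Fintype.card_subtype_compl, Fintype.card_fin]
    congr 1
    refine Eq.trans ?_ ((Set.card_range_of_injective hs).trans (Fintype.card_fin _))
    exact Fintype.card_congr (Equiv.refl _)
  have h2 : Fintype.card {a : Mon n d // ∀ l ∈ a.1.support, l ∈ Set.range s} = Nat.choose (m + d) d := by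
    rw [← card_mon m d]
    refine (Fintype.card_congr (Equiv.ofBijective
      (fun a : Mon m d => (⟨⟨a.1.mapDomain s, by rw [Finsupp.degree_mapDomain, a.2]⟩, fun l hl => by
        obtain ⟨i, -, rfl⟩ := Finset.mem_image.1 (Finsupp.mapDomain_support hl)
        exact ⟨i, rfl⟩⟩ : {a : Mon n d // ∀ l ∈ a.1.support, l ∈ Set.range s})) ⟨?_, ?_⟩)).symm
    · intro a b h
      exact Subtype.ext (Finsupp.mapDomain_injective hs (congrArg (fun x => x.1.1) h))
    · rintro ⟨⟨a, ha⟩, hsup⟩
      have e := Finsupp.mapDomain_comapDomain s hs a (fun l hl => hsup l hl)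
      refine ⟨⟨a.comapDomain s hs.injOn, ?_⟩, Subtype.ext (Subtype.ext e)⟩
      rw [← Finsupp.degree_mapDomain (f := s), e, ha]
  have h3 := Fintype.card_subtype_compl (fun a : Mon n d => ∀ l ∈ a.1.support, l ∈ Set.range s)
  have h4 := Fintype.card_subtype_le (fun a : Mon n d => ∀ l ∈ a.1.support, l ∈ Set.range s)
  rw [Fintype.card_sum, Fintype.card_prod, Fintype.card_fin, h1]
  rw [card_mon, h2] at h3 h4
  rw [h3]
  omega

/-- every subspace lies in some chart -/
lemma exists_chart (U : Submodule k (Fin (n + 1) → k)) (hU : Module.finrank k U = r) :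
    ∃ (s : Fin r → Fin (n + 1)) (A : Fin r → Out s → k), Function.Injective s ∧
      U = Submodule.span k (Set.range (chartVec s A)) := by
  classical
  let f : Fin (n + 1) → Module.Dual k U := fun l => (LinearMap.proj l).comp U.subtype
  obtain ⟨κ, a, ha, hsp, hli⟩ := exists_linearIndependent' k f
  have : Finite κ := Finite.of_injective a ha
  have := Fintype.ofFinite κ
  have htop : Submodule.span k (Set.range f) = ⊤ := by
    rw [← Subspace.dualCoannihilator_dualAnnihilator_eq (W := Submodule.span k (Set.range f))]
    suffices h : (Submodule.span k (Set.range f)).dualCoannihilator = ⊥ by rw [h, Submodule.dualAnnihilator_bot]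
    rw [eq_bot_iff]
    intro u hu
    rw [Submodule.mem_dualCoannihilator] at hu
    exact Subtype.ext (funext fun l => hu _ (Submodule.subset_span ⟨l, rfl⟩))
  let bD : Module.Basis κ k (Module.Dual k U) := Module.Basis.mk hli (by rw [hsp, htop])
  have hcard : Fintype.card κ = r := by
    rw [← Module.finrank_eq_card_basis bD, Subspace.dual_finrank_eq, hU]
  let e : Fin r ≃ κ := (Fintype.equivFinOfCardEq hcard).symm
  let s : Fin r → Fin (n + 1) := a ∘ e
  let π : U →ₗ[k] (Fin r → k) := LinearMap.pi fun i => f (s i)
  have hπ : Function.Injective π := by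
    rw [← LinearMap.ker_eq_bot, LinearMap.ker_eq_bot']
    intro u hu
    refine (Module.forall_dual_apply_eq_zero_iff k u).1 fun φ => ?_
    have hφ : φ ∈ Submodule.span k (Set.range (f ∘ a)) := by rw [hsp, htop]; trivial
    induction hφ using Submodule.span_induction with
    | mem x hx =>
      obtain ⟨j, rfl⟩ := hx
      have := congrFun hu (e.symm j)
      simpa [π, s] using this
    | zero => simp
    | add x y _ _ hx hy => simp [hx, hy]
    | smul t x _ hx => simp [hx]
  let π' : U ≃ₗ[k] (Fin r → k) :=
    LinearEquiv.ofInjectiveOfFinrankEq π hπ (by rw [hU, Module.finrank_fintype_fun_eq_card, Fintype.card_fin])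
  let w : Fin r → U := fun i => π'.symm (Pi.single i 1)
  have hws : ∀ i j, (w i).1 (s j) = (Pi.single i 1 : Fin r → k) j := fun i j => by
    change π' (w i) j = _
    simp [w]
  have hs : Function.Injective s := ha.comp e.injective
  refine ⟨s, fun i o => (w i).1 o.1, hs, ?_⟩
  have hw : chartVec s (fun i o => (w i).1 o.1) = fun i => (w i).1 := by
    funext i l
    rw [chartVec]
    split_ifs with h h'
    · subst h'; rw [hws]; simp
    · obtain ⟨j, rfl⟩ := h
      rw [hws, Pi.single_eq_of_ne (fun hji => h' (by rw [hji]))]
    · rfl
  rw [hw, show (fun i => (w i).1) = U.subtype ∘ w from rfl, Set.range_comp, Submodule.span_image]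
  have : Submodule.span k (Set.range w) = ⊤ := by
    have : w = (Pi.basisFun k (Fin r)).map π'.symm := by funext i; simp [w]
    rw [this]; exact Module.Basis.span_eq _
  rw [this, Submodule.map_subtype_top]

/-- forms vanishing on a subspace of the chart belong to the family -/
lemma mem_chartFamily [Infinite k] (hs : Function.Injective s) (A : Fin r → Out s → k) (G : LefPen.Form n k d)
    (hG : ∀ u ∈ Submodule.span k (Set.range (chartVec s A)), eval u G.1 = 0) :
    ∃ z : (Fin r × Out s) ⊕ FreeMon d s → k, (∀ i o, z (Sum.inl (i, o)) = -A i o) ∧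
      map (eval z) (chartFamily k d s) = G.1 := by
  classical
  let F := aeval (chartLin s A) G.1
  have hF : F.IsHomogeneous d := by
    have := ((mem_homogeneousSubmodule d _).1 G.2).aeval (g := chartLin s A) (n := 1)
      (isHomogeneous_chartLin s A)
    rw [one_mul] at this
    exact this
  let mask : Fin (n + 1) → MvPolynomial (Fin (n + 1)) k := fun l => if l ∈ Set.range s then X l else 0
  have hmask : aeval mask F = 0 := by
    apply MvPolynomial.funext
    intro x
    let v : Fin (n + 1) → k := fun l => if l ∈ Set.range s then x l else 0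
    have h1 : eval x (aeval mask F) = eval v F := by
      clear_value F
      clear hF
      induction F using MvPolynomial.induction_on with
      | C a => simp
      | add p q hp hq => simp only [map_add, hp, hq]
      | mul_X p j hp =>
        simp only [map_mul, hp, aeval_X, eval_X, mask, v]
        split_ifs <;> simp
    rw [h1, eval_chartLin, map_zero]
    refine hG _ ?_
    have : chartPt s A v = ∑ i, v (s i) • chartVec s A i := by
      funext l
      rw [Finset.sum_apply, chartPt]
      by_cases h : l ∈ Set.range s
      · rw [dif_pos h, add_zero]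
        obtain ⟨j, rfl⟩ := h
        simp [chartVec, hs.eq_iff]
      · rw [dif_neg h]
        simp [chartVec, h, v, mul_comm]
        intro x₁ h'
        exact absurd ⟨x₁, h'⟩ h
    rw [this]
    exact Submodule.sum_mem _ fun i _ => Submodule.smul_mem _ _ (Submodule.subset_span ⟨i, rfl⟩)
  have hz : ∀ a : Fin (n + 1) →₀ ℕ, (∀ l ∈ a.support, l ∈ Set.range s) → coeff a F = 0 := by
    intro a ha
    have key : ∀ F : MvPolynomial (Fin (n + 1)) k, coeff a (aeval mask F) = coeff a F := by
      intro F
      induction F using MvPolynomial.induction_on' with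
      | monomial b c =>
        by_cases hb : ∀ l ∈ b.support, l ∈ Set.range s
        · have : aeval mask (monomial b c) = monomial b c := by
            rw [aeval_monomial, monomial_eq (s := b) (a := c)]
            congr 1
            exact Finsupp.prod_congr fun l hl => by simp only [mask, if_pos (hb l hl)]
          rw [this]
        · push Not at hb
          obtain ⟨l, hl, hl'⟩ := hb
          have : aeval mask (monomial b c) = 0 := by
            rw [aeval_monomial]
            refine mul_eq_zero_of_right _ (Finset.prod_eq_zero hl ?_)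
            simp only [mask, if_neg hl']
            exact zero_pow (Finsupp.mem_support_iff.1 hl)
          rw [this, coeff_zero, coeff_monomial, if_neg]
          rintro rfl
          exact hl' (ha l hl)
      | add p q hp hq => rw [map_add, coeff_add, coeff_add, hp, hq]
    rw [← key, hmask, coeff_zero]
  refine ⟨Sum.elim (fun p => -A p.1 p.2) (fun m => coeff m.1.1 F), fun i o => rfl, ?_⟩
  rw [chartFamily, map_aeval_eq, map_sum]
  simp only [map_monomial, eval_X, Sum.elim_inr, map_chartLin, Sum.elim_inl]
  have hsum : (∑ m : FreeMon d s, monomial m.1.1 (coeff m.1.1 F)) = F := by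
    conv_rhs => rw [eq_sum_monomial hF]
    rw [← Fintype.sum_subtype_add_sum_subtype (fun m : Mon n d => ∀ l ∈ m.1.support, l ∈ Set.range s)
      (fun m => monomial m.1 (coeff m.1 F)),
      Finset.sum_eq_zero (fun (m : {m : Mon n d // ∀ l ∈ m.1.support, l ∈ Set.range s}) _ => by
        rw [hz m.1.1 m.2, monomial_zero]), zero_add]
  rw [hsum]
  apply MvPolynomial.funext
  intro x
  rw [eval_chartLin, eval_chartLin]
  congr 2
  funext l
  have hfix : ∀ B : Fin r → Out s → k, ∀ i, chartPt s B x (s i) = x (s i) := fun B i => by simp [chartPt]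
  unfold chartPt at hfix ⊢
  by_cases h : l ∈ Set.range s
  · simp [h]
  · simp [h]

end Chart

end Groth.Agent.GenericFibre
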